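import Mathlib
import Cfsg.Agent.LieClassical.SLGen
import Cfsg.Agent.ClassicalGeometry.AutPSL.Images

/-!
An automorphism of `PSL` preserving the elementary root groups is a diagonal automorphism times a
field automorphism.
-/

set_option autoImplicit false
set_option linter.unusedSectionVars false

namespace Cfsg.Agent.ClassicalGeometry.AutPSL.FieldAut

open Matrix
open Cfsg.Agent.ClassicalGeometry.AutPSL.Root
open Cfsg.Agent.ClassicalGeometry.AutPSL.Auto
open Cfsg.Agent.ClassicalGeometry.AutPSL.Images

section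

variable {ι F : Type*} [Fintype ι] [DecidableEq ι] [Field F]

/-- Diagonal element of `GL`. -/
def dg (d : ι → F) (hd : ∀ i, d i ≠ 0) : GL ι F :=
  ⟨diagonal d, diagonal fun i => (d i)⁻¹, by
    rw [diagonal_mul_diagonal, ← diagonal_one]
    congr 1
    funext i
    exact mul_inv_cancel₀ (hd i), by
    rw [diagonal_mul_diagonal, ← diagonal_one]
    congr 1
    funext i
    exact inv_mul_cancel₀ (hd i)⟩

theorem cj_dg (d : ι → F) (hd : ∀ i, d i ≠ 0) {i j : ι} (hij : i ≠ j) (t : F) :
    cj (dg d hd) (Matrix.SpecialLinearGroup.transvection hij t)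
      = Matrix.SpecialLinearGroup.transvection hij (d i * t * (d j)⁻¹) := by
  rw [transvection_eq_tr, cj_tr, transvection_eq_tr, tr_eq_iff]
  have e1 : (dg d hd : Matrix ι ι F) *ᵥ (t • Pi.single i 1) = (d i * t) • Pi.single i 1 := by
    rw [mulVec_smul, mulVec_single_one]
    ext r
    change t * diagonal d r i = (d i * t) * (Pi.single i 1 : ι → F) r
    rw [diagonal_apply, Pi.single_apply]
    by_cases hr : r = i
    · rw [if_pos hr, if_pos hr, hr]; ring
    · rw [if_neg hr, if_neg hr]; ring
  have e2 : (Pi.single j 1 : ι → F) ᵥ* (((dg d hd)⁻¹ : GL ι F) : Matrix ι ι F)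
      = (d j)⁻¹ • Pi.single j 1 := by
    rw [single_one_vecMul]
    ext r
    change diagonal (fun i => (d i)⁻¹) j r = (d j)⁻¹ * (Pi.single j 1 : ι → F) r
    rw [diagonal_apply, Pi.single_apply]
    by_cases hr : j = r
    · rw [if_pos hr, if_pos hr.symm, mul_one]
    · rw [if_neg hr, if_neg (Ne.symm hr), mul_zero]
  rw [e1, e2, vecMulVec_smul, smul_vecMulVec, smul_vecMulVec, smul_smul, mul_comm (d j)⁻¹]

variable (β : MulAut (Matrix.ProjectiveSpecialLinearGroup ι F))

/-- Parameter maps of an automorphism preserving the elementary root groups. -/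
structure Params where
  f : ι → ι → F → F
  map : ∀ (i j : ι) (hij : i ≠ j) (t : F),
    β (pr (Matrix.SpecialLinearGroup.transvection hij t))
      = pr (Matrix.SpecialLinearGroup.transvection hij (f i j t))

theorem exists_params (hβ : ∀ (i j : ι) (hij : i ≠ j) (t : F), ∃ s : F,
      β (pr (Matrix.SpecialLinearGroup.transvection hij t))
        = pr (Matrix.SpecialLinearGroup.transvection hij s)) : Nonempty (Params β) := by
  have key : ∀ (i j : ι) (t : F), ∃ s : F, ∀ hij : i ≠ j,
      β (pr (Matrix.SpecialLinearGroup.transvection hij t))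
        = pr (Matrix.SpecialLinearGroup.transvection hij s) := by
    intro i j t
    by_cases hij : i = j
    · exact ⟨0, fun h => absurd hij h⟩
    · obtain ⟨s, hs⟩ := hβ i j hij t
      exact ⟨s, fun _ => hs⟩
  choose f hf using key
  exact ⟨⟨f, fun i j hij t => hf i j t hij⟩⟩

variable {β}

theorem Params.add (P : Params β) {i j : ι} (hij : i ≠ j) (s t : F) :
    P.f i j (s + t) = P.f i j s + P.f i j t := by
  apply pr_transvection_injective hij
  rw [← P.map, Matrix.SpecialLinearGroup.transvection_add, map_mul, map_mul, P.map, P.map,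
    Matrix.SpecialLinearGroup.transvection_add, map_mul]

theorem Params.inj (P : Params β) {i j : ι} (hij : i ≠ j) {s t : F}
    (h : P.f i j s = P.f i j t) : s = t := by
  apply pr_transvection_injective hij
  apply β.injective
  rw [P.map, P.map, h]

theorem Params.zero (P : Params β) {i j : ι} (hij : i ≠ j) : P.f i j 0 = 0 := by
  have := P.add hij 0 0
  rw [add_zero] at this
  exact left_eq_add.1 this

theorem Params.ne_zero (P : Params β) {i j : ι} (hij : i ≠ j) {t : F} (ht : t ≠ 0) :
    P.f i j t ≠ 0 := by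
  intro h
  exact ht (P.inj hij (h.trans (P.zero hij).symm))

theorem Params.comm (P : Params β) {i j k : ι} (hij : i ≠ j) (hjk : j ≠ k) (hik : i ≠ k)
    (s t : F) : P.f i k (s * t) = P.f i j s * P.f j k t := by
  apply pr_transvection_injective hik
  rw [← P.map, ← Cfsg.Agent.LieClassical.SLGen.commutator_transvection hik hij hjk,
    ← Cfsg.Agent.LieClassical.SLGen.commutator_transvection hik hij hjk,
    map_commutatorElement, map_commutatorElement, map_commutatorElement, P.map, P.map]

end

section finite

variable {F : Type*} [Field F] [Finite F]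

theorem exists_ringEquiv (g : F → F) (hadd : ∀ s t, g (s + t) = g s + g t)
    (hmul : ∀ s t, g (s * t) = g s * g t) (h1 : g 1 = 1) : ∃ σ : F ≃+* F, ∀ t, σ t = g t := by
  have h0 : g 0 = 0 := by
    have := hadd 0 0
    rw [add_zero] at this
    exact left_eq_add.1 this
  let r : F →+* F :=
    { toFun := g, map_one' := h1, map_mul' := hmul, map_zero' := h0, map_add' := hadd }
  have hr : Function.Bijective r := Finite.injective_iff_bijective.1 r.injective
  exact ⟨RingEquiv.ofBijective r hr, fun t => rfl⟩

variable {n : ℕ}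

/-- `n ≥ 3`. -/
theorem exists_field_three {ι : Type*} [Fintype ι] [DecidableEq ι] (hn : 3 ≤ Fintype.card ι)
    {β : MulAut (Matrix.ProjectiveSpecialLinearGroup ι F)} (P : Params β) :
    ∃ (D : GL ι F) (σ : F ≃+* F), ∀ (i j : ι) (hij : i ≠ j) (t : F),
      β (pr (Matrix.SpecialLinearGroup.transvection hij t))
        = pr (cj D (fld σ (Matrix.SpecialLinearGroup.transvection hij t))) := by
  obtain ⟨o⟩ : Nonempty ι := Fintype.card_pos_iff.1 (by omega)
  have third : ∀ i j : ι, ∃ k, i ≠ k ∧ j ≠ k := by
    intro i j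
    by_contra hno
    push Not at hno
    have h1 : (Finset.univ : Finset ι) ⊆ {i, j} := by
      intro k _
      rw [Finset.mem_insert, Finset.mem_singleton]
      by_cases hk : i = k
      · exact Or.inl hk.symm
      · exact Or.inr (hno k hk).symm
    have h2 := Finset.card_le_card h1
    have h3 := Finset.card_le_two (a := i) (b := j)
    rw [Finset.card_univ] at h2
    omega
  let u : ι → F := fun j => if j = o then 1 else P.f o j 1
  have hu : ∀ j, u j ≠ 0 := by
    intro j
    change (if j = o then 1 else P.f o j 1) ≠ 0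
    by_cases hj : j = o
    · rw [if_pos hj]; exact one_ne_zero
    · rw [if_neg hj]; exact P.ne_zero (Ne.symm hj) one_ne_zero
  have huo : u o = 1 := if_pos rfl
  have huj : ∀ j, o ≠ j → u j = P.f o j 1 := fun j hj => if_neg (Ne.symm hj)
  obtain ⟨m, hom, -⟩ := third o o
  let g : F → F := fun t => P.f o m t * (u m)⁻¹
  -- relation for `o ≠ j ≠ k ≠ o`
  have r1 : ∀ j k, o ≠ j → j ≠ k → o ≠ k → ∀ t, P.f o k t = u j * P.f j k t := by
    intro j k hj hjk hk t
    have := P.comm hj hjk hk 1 t
    rw [one_mul] at this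
    rw [this, huj j hj]
  have r2 : ∀ j k, o ≠ j → j ≠ k → o ≠ k → ∀ s, P.f o k s = P.f o j s * P.f j k 1 := by
    intro j k hj hjk hk s
    have := P.comm hj hjk hk s 1
    rw [mul_one] at this
    exact this
  have hg0 : ∀ k, o ≠ k → ∀ t, P.f o k t = u k * g t := by
    intro k hk t
    change P.f o k t = u k * (P.f o m t * (u m)⁻¹)
    by_cases hmk : m = k
    · rw [hmk, mul_comm (u k), mul_assoc, inv_mul_cancel₀ (hu k), mul_one]
    · have e1 := r2 m k hom hmk hk t
      have e2 := r1 m k hom hmk hk 1
      rw [← huj k hk] at e2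
      have hum := hu m
      rw [e1, e2]
      field_simp
  have hg1 : g 1 = 1 := by
    change P.f o m 1 * (u m)⁻¹ = 1
    rw [← huj m hom, mul_inv_cancel₀ (hu m)]
  have hgj : ∀ j k, o ≠ j → j ≠ k → o ≠ k → ∀ t, P.f j k t = (u j)⁻¹ * (u k) * g t := by
    intro j k hj hjk hk t
    have e1 := r1 j k hj hjk hk t
    rw [hg0 k hk] at e1
    have := hu j
    field_simp
    linear_combination -e1
  have hgadd : ∀ s t, g (s + t) = g s + g t := by
    intro s t
    change P.f o m (s + t) * (u m)⁻¹ = P.f o m s * (u m)⁻¹ + P.f o m t * (u m)⁻¹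
    rw [P.add hom, add_mul]
  have hgmul : ∀ s t, g (s * t) = g s * g t := by
    intro s t
    obtain ⟨k, hok, hmk⟩ := third o m
    have e1 := P.comm hom hmk hok s t
    rw [hg0 k hok, hg0 m hom, hgj m k hom hmk hok] at e1
    have h1 := hu m
    have h2 := hu k
    field_simp at e1
    linear_combination e1
  have hgo : ∀ j, o ≠ j → ∀ t, P.f j o t = (u j)⁻¹ * g t := by
    intro j hj t
    obtain ⟨k, hok, hjk⟩ := third o j
    have e1 := P.comm hj.symm hok hjk t 1
    rw [mul_one, hgj j k hj hjk hok, hg0 k hok, hg1, mul_one] at e1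
    have h1 := hu j
    have h2 := hu k
    field_simp at e1 ⊢
    linear_combination -e1
  obtain ⟨σ, hσ⟩ := exists_ringEquiv g hgadd hgmul hg1
  refine ⟨dg (fun i => (u i)⁻¹) (fun i => inv_ne_zero (hu i)), σ, fun i j hij t => ?_⟩
  rw [P.map, fld_transvection, cj_dg, hσ]
  congr 2
  rw [inv_inv]
  by_cases hi : o = i
  · subst hi
    rw [hg0 j hij, huo]
    ring
  · by_cases hj : o = j
    · subst hj
      rw [hgo i hi, huo]
      ring
    · rw [hgj i j hi hij hj]
      ring

end finite

end Cfsg.Agent.ClassicalGeometry.AutPSL.FieldAut
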