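import Mathlib
import Cfsg.Agent.ClassicalGeometry.AutPSL.FieldAut

/-!
The rank one case: an automorphism of `PSL_2` preserving the two elementary root groups is a
diagonal automorphism times a field automorphism.
-/

set_option autoImplicit false
set_option linter.unusedSectionVars false

namespace Cfsg.Agent.ClassicalGeometry.AutPSL.FieldAutTwo

open Matrix
open Cfsg.Agent.ClassicalGeometry.AutPSL.Root
open Cfsg.Agent.ClassicalGeometry.AutPSL.Auto
open Cfsg.Agent.ClassicalGeometry.AutPSL.Images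
open Cfsg.Agent.ClassicalGeometry.AutPSL.FieldAut

variable {F : Type*} [Field F]

theorem h01 : (0 : Fin 2) ≠ 1 := zero_ne_one

/-- Upper root elements. -/
def X (t : F) : Matrix.SpecialLinearGroup (Fin 2) F := Matrix.SpecialLinearGroup.transvection h01 t

/-- Lower root elements. -/
def Y (t : F) : Matrix.SpecialLinearGroup (Fin 2) F :=
  Matrix.SpecialLinearGroup.transvection h01.symm t

theorem coe_X (t : F) : (X t : Matrix (Fin 2) (Fin 2) F) = !![1, t; 0, 1] := by
  change (1 : Matrix (Fin 2) (Fin 2) F) + single 0 1 t = _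
  ext i j
  fin_cases i <;> fin_cases j <;> simp

theorem coe_Y (t : F) : (Y t : Matrix (Fin 2) (Fin 2) F) = !![1, 0; t, 1] := by
  change (1 : Matrix (Fin 2) (Fin 2) F) + single 1 0 t = _
  ext i j
  fin_cases i <;> fin_cases j <;> simp

theorem weyl_conj {t : F} (ht : t ≠ 0) (s : F) :
    X t * Y (-t⁻¹) * X t * X s = Y (-(t⁻¹ ^ 2 * s)) * (X t * Y (-t⁻¹) * X t) := by
  apply Subtype.ext
  simp only [Matrix.SpecialLinearGroup.coe_mul, coe_X, coe_Y]
  ext i j
  fin_cases i <;> fin_cases j <;> simp [Matrix.mul_apply, Fin.sum_univ_two] <;> field_simp <;>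
    ring_nf <;> simp

theorem weyl_rel {a b c f g : F} (hf : f ≠ 0)
    (h : ((Y g * (X a * Y b * X a) : Matrix.SpecialLinearGroup (Fin 2) F) :
      Matrix (Fin 2) (Fin 2) F)
      = c • ((X a * Y b * X a * X f : Matrix.SpecialLinearGroup (Fin 2) F) :
        Matrix (Fin 2) (Fin 2) F)) (ha : a ≠ 0) : 1 + a * b = 0 ∧ g = -(a⁻¹ ^ 2 * f) := by
  simp only [Matrix.SpecialLinearGroup.coe_mul, coe_X, coe_Y] at h
  have h00 := congrFun (congrFun h 0) 0
  have h01 := congrFun (congrFun h 0) 1
  have h11 := congrFun (congrFun h 1) 1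
  simp [Matrix.mul_apply, Fin.sum_univ_two] at h00 h01 h11
  have hw : 1 + a * b = 0 := by
    by_contra hw
    have hc : c = 1 := by
      have : (1 + a * b) * (c - 1) = 0 := by linear_combination -h00
      exact sub_eq_zero.1 ((mul_eq_zero.1 this).resolve_left hw)
    rw [hc] at h01
    have : (1 + a * b) * f = 0 := by linear_combination -h01
    exact hf ((mul_eq_zero.1 this).resolve_left hw)
  refine ⟨hw, ?_⟩
  have hb : b = -a⁻¹ := by
    field_simp
    linear_combination hw
  have hc : c = 1 := by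
    have : a * (c - 1) = 0 := by
      linear_combination -h01 + (-c * f - c * a + a) * hw
    exact sub_eq_zero.1 ((mul_eq_zero.1 this).resolve_left ha)
  have h3 : g * a = b * f := by
    rw [hc] at h11
    linear_combination h11 + (-g * a) * hw
  rw [hb] at h3
  have : g = -a⁻¹ * f * a⁻¹ := by
    rw [← h3, mul_assoc, mul_inv_cancel₀ ha, mul_one]
  rw [this]
  ring

variable [Finite F]

/-- `n = 2`. -/
theorem exists_field_two
    {β : MulAut (Matrix.ProjectiveSpecialLinearGroup (Fin 2) F)} (P : Params β) :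
    ∃ (D : GL (Fin 2) F) (σ : F ≃+* F), ∀ (i j : Fin 2) (hij : i ≠ j) (t : F),
      β (pr (Matrix.SpecialLinearGroup.transvection hij t))
        = pr (cj D (fld σ (Matrix.SpecialLinearGroup.transvection hij t))) := by
  let f : F → F := P.f 0 1
  let g : F → F := P.f 1 0
  have hfX : ∀ t, β (pr (X t)) = pr (X (f t)) := fun t => P.map 0 1 h01 t
  have hgY : ∀ t, β (pr (Y t)) = pr (Y (g t)) := fun t => P.map 1 0 h01.symm t
  have hfadd : ∀ s t, f (s + t) = f s + f t := P.add h01
  have hgadd : ∀ s t, g (s + t) = g s + g t := P.add h01.symm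
  have hf0 : ∀ t, t ≠ 0 → f t ≠ 0 := fun t ht => P.ne_zero h01 ht
  have hfz : f 0 = 0 := P.zero h01
  have hgz : g 0 = 0 := P.zero h01.symm
  have hgneg : ∀ t, g (-t) = -g t := by
    intro t
    have := hgadd (-t) t
    rw [neg_add_cancel, hgz] at this
    exact eq_neg_of_add_eq_zero_left this.symm
  -- the key relation
  have key : ∀ t, t ≠ 0 → ∀ s, g (t⁻¹ ^ 2 * s) = (f t)⁻¹ ^ 2 * f s := by
    intro t ht s
    by_cases hs : s = 0
    · rw [hs, mul_zero, hgz, hfz, mul_zero]
    have e1 := congrArg (fun x => β (pr x)) (weyl_conj ht s)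
    simp only [map_mul, hfX, hgY] at e1
    simp only [← map_mul] at e1
    obtain ⟨c, hc⟩ := exists_smul_of_pr_eq e1
    have e2 := (weyl_rel (hf0 s hs) hc (hf0 t ht)).2
    rw [hgneg] at e2
    exact neg_injective e2
  obtain ⟨u, hu⟩ : ∃ u, u = f 1 := ⟨_, rfl⟩
  have hu0 : u ≠ 0 := by rw [hu]; exact hf0 1 one_ne_zero
  have hg : ∀ s, g s = u⁻¹ ^ 2 * f s := by
    intro s
    have := key 1 one_ne_zero s
    rw [inv_one, one_pow, one_mul, ← hu] at this
    exact this
  let r : F → F := fun t => u⁻¹ * f t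
  have hr : ∀ t, r t = u⁻¹ * f t := fun _ => rfl
  have hfr : ∀ t, f t = u * r t := fun t => by rw [hr, ← mul_assoc, mul_inv_cancel₀ hu0, one_mul]
  have hr1 : r 1 = 1 := by rw [hr, ← hu, inv_mul_cancel₀ hu0]
  have hradd : ∀ s t, r (s + t) = r s + r t := by
    intro s t
    rw [hr, hr, hr, hfadd, mul_add]
  have hr0 : r 0 = 0 := by rw [hr, hfz, mul_zero]
  have hrsq : ∀ t, t ≠ 0 → ∀ s, r (t⁻¹ ^ 2 * s) = (r t)⁻¹ ^ 2 * r s := by
    intro t ht s
    have e1 := key t ht s
    rw [hg, hfr, hfr t, hfr s, mul_inv, mul_pow] at e1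
    have h1 : u⁻¹ ^ 2 * u ≠ 0 := mul_ne_zero (pow_ne_zero _ (inv_ne_zero hu0)) hu0
    apply mul_left_cancel₀ h1
    linear_combination e1
  have hsq : ∀ x s, r (x ^ 2 * s) = r (x ^ 2) * r s := by
    intro x s
    by_cases hx : x = 0
    · rw [hx]
      simp [hr0]
    have e1 := hrsq x⁻¹ (inv_ne_zero hx) s
    have e2 := hrsq x⁻¹ (inv_ne_zero hx) 1
    rw [inv_inv] at e1 e2
    rw [hr1, mul_one, mul_one] at e2
    rw [e1, e2]
  have hmul : ∀ x s, r (x * s) = r x * r s := by
    intro x s
    by_cases h2 : (2 : F) = 0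
    · -- characteristic two: squares
      have hchar : ringChar F = 2 := by
        have : (ringChar F) ∣ 2 := (ringChar.spec F 2).1 (by exact_mod_cast h2)
        rcases (Nat.dvd_prime Nat.prime_two).1 this with h | h
        · exact absurd (CharP.ringChar_ne_one (R := F)) (by rw [h]; simp)
        · exact h
      obtain ⟨y, hy⟩ := FiniteField.isSquare_of_char_two hchar x
      rw [hy, ← sq, hsq]
    · have e1 : (x + 1) ^ 2 * s = 2 * (x * s) + x ^ 2 * s + 1 ^ 2 * s := by ring
      have e2 : (x + 1) ^ 2 = 2 * x + x ^ 2 + 1 ^ 2 := by ring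
      have h3 := hsq (x + 1) s
      rw [e1, e2, hradd, hradd, hradd, hradd, hsq x, hsq 1, two_mul, two_mul, hradd, hradd] at h3
      have h4 : (2 : F) * r (x * s) = 2 * (r x * r s) := by linear_combination h3
      exact mul_left_cancel₀ h2 h4
  obtain ⟨σ, hσ⟩ := exists_ringEquiv r hradd hmul hr1
  let d : Fin 2 → F := ![u, 1]
  have hd : ∀ i, d i ≠ 0 := by
    intro i
    fin_cases i
    · exact hu0
    · exact one_ne_zero
  refine ⟨dg d hd, σ, fun i j hij t => ?_⟩
  rw [P.map, fld_transvection, cj_dg, hσ]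
  congr 2
  fin_cases i <;> fin_cases j
  · exact absurd rfl hij
  · change f t = u * r t * 1⁻¹
    rw [hfr]
    ring
  · change g t = 1 * r t * u⁻¹
    rw [hg, hr]
    ring
  · exact absurd rfl hij

end Cfsg.Agent.ClassicalGeometry.AutPSL.FieldAutTwo
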